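import Cfsg.Agent.Helper28.L37B.All
import Cfsg.Agent.Helper28.L37Pres
set_option autoImplicit false
set_option maxRecDepth 1000000
namespace Cfsg.Agent.Helper28.L37B
open Cfsg.Agent.Helper28 Cfsg.Spor

/-- generator with a given index -/
def gen : Nat → L37P.Gen
  | 0 => .a | _ => .x

/-- index of a generator -/
def idx : L37P.Gen → Nat
  | .a => 0 | .x => 1

/-- the subgroup generators -/
def Ylist : List (FreeGroup L37P.Gen) := [L37P.x⁻¹ * L37P.x⁻¹ * L37P.a * L37P.x * L37P.x * L37P.x, L37P.a * L37P.x⁻¹ * L37P.x⁻¹ * L37P.a * L37P.x * L37P.x * L37P.a, L37P.a * L37P.x⁻¹ * L37P.a * L37P.x * L37P.x * L37P.x * L37P.x * L37P.a]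

theorem hY_ok : ∀ s, s < tabs.nsub → ev gen 2 (tabs.word s) = Ylist.getD s 1 := by
  decide +kernel

theorem hcoxw_ok : ∀ ix, ix < 2 → ∀ iy, iy < 2 →
    tabs.word (tabs.nsub + ix * 2 + iy) = coxW ix iy (lab L37P.edges gen ix iy) := by
  decide +kernel

theorem hextra_ok : ∀ j, j < L37P.extra.length →
    ev gen 2 (tabs.word (tabs.nsub + 2 * 2 + j)) = L37P.extra.getD j 1 := by
  decide +kernel

theorem htriv_ok : ∀ l, l < 2 * 2 →
    tabs.word (tabs.nsub + 2 * 2 + L37P.extra.length + l) = [l, flipL l] := by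
  decide +kernel

theorem hletters_ok : ∀ r, r < tabs.nwords → ∀ l ∈ tabs.word r, l < ptabs.L := by
  decide +kernel

theorem layout : Layout L37P.edges L37P.extra Ylist gen idx 2 tabs ptabs where
  hngen := by decide
  hgi := by intro a; cases a <;> exact ⟨by decide, rfl⟩
  hig := by decide
  hnsub := by decide +kernel
  hY := hY_ok
  hcoxw := hcoxw_ok
  hextra := hextra_ok
  htriv := htriv_ok
  hempty := by decide +kernel
  hnwords := by decide +kernel
  hL := by decide +kernel
  hletters := hletters_ok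

/-- the relators -/
abbrev R : Set (FreeGroup L37P.Gen) := coxRels L37P.edges L37P.extra
/-- the subgroup generators as a set -/
abbrev Y : Set (FreeGroup L37P.Gen) := {y | y ∈ Ylist}

theorem facts_to (k kend : Nat) (vs : List Nat) (hc : checkChunks tabs vs k kend = true)
    (hk : ∀ f, f < k → VF (HH R Y) (gG R gen 2) tabs f) :
    ∀ f, f < kend → VF (HH R Y) (gG R gen 2) tabs f :=
  facts_part R Y gen 2 tabs layout.hngen defs_ok layout.hYw layout.hrelw vs k kend hc hk

theorem facts_0 : ∀ f, f < 0 → VF (HH R Y) (gG R gen 2) tabs f :=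
  fun f hf => absurd hf (Nat.not_lt_zero f)
theorem facts_upto0 : ∀ f, f < 79 → VF (HH R Y) (gG R gen 2) tabs f :=
  facts_to _ _ _ facts_ok0 facts_0

theorem hperm_all : ∀ r, tabs.nsub ≤ r → r < tabs.nsub + 2 * 2 + L37P.extra.length →
    relOk ptabs (tabs.word r) 0 ptabs.n = true := by
  intro r h1 h2
  exact perm_all r h1 h2

theorem hn : 0 < ptabs.n := by decide +kernel

theorem main_index : (HH R Y).index = 57 :=
  (cox_cert inv_ok layout hn defs_ok 79 facts_upto0 fin_ok par_ok hperm_all subfix_all).1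

end Cfsg.Agent.Helper28.L37B
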